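import Groth.Prelude.Def_TautSec2
import Groth.Prelude.Def_ShStab
import Groth.Prelude.Def_FGA
import Groth.Agent.SymProd.K992.BigDiag
import Groth.Agent.S2908
import Groth.Agent.S2909
import Groth.Agent.S0052
import Groth.Agent.S9816
import Groth.Agent.Models2.AmplePull
import Groth.Agent.Fga.TensorList
import Groth.Agent.Ega3B.PullTensor
import Groth.Agent.AlgSp.K618.TopDim

/-!
# The quotient `q : X² ⟶ Y` onto the symmetric square: first facts

`q` is finite and surjective, `Y` is proper, the big diagonal is saturated and its image has dimension `≤ dim X`.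
-/

set_option autoImplicit false
universe u

open CategoryTheory CategoryTheory.Limits AlgebraicGeometry
open K992.FibPow K992.BigDiag

namespace K639.SymFacts

variable {X S Y : Scheme.{u}} (f : X ⟶ S)

/-- Permutations preserve the big diagonal. -/
lemma permHom_mem_bigDiag {n : ℕ} (σ : Equiv.Perm (Fin (n + 1))) {x : SymProd.fibPow f (n + 1)}
    (hx : x ∈ bigDiag f n) : SymProd.permHom f (n + 1) σ x ∈ bigDiag f n := by
  obtain ⟨i, j, hij, w, rfl⟩ := (mem_bigDiag f).1 hx
  have h := mem_of_eq f (i := σ i) (j := σ j) (fun h => hij (σ.injective h))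
    (δ f i j hij ≫ SymProd.permHom f (n + 1) σ) (by
      rw [Category.assoc, Category.assoc]
      erw [SymProd.permHom_π, SymProd.permHom_π]
      rw [Equiv.symm_apply_apply, Equiv.symm_apply_apply]
      exact δ_pr_eq f i j hij) w
  exact h

theorem quot_facts_gen [IsLocallyNoetherian S] [IsProper f] (n : ℕ) (q : SymProd.fibPow f (n + 1) ⟶ Y) (gY : Y ⟶ S)
    (hY : SymProd.IsSymProd f (n + 1) q gY) : IsProper gY ∧ IsFinite q ∧ Surjective q ∧
    q ⁻¹' (q '' bigDiag f n) = bigDiag f n := by
  have hprop : IsProper (base f (n + 1)) :=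
    base_of f @IsProper (fun _ _ => inferInstance) inferInstance (n + 1)
  obtain ⟨h1, h2, -⟩ := Groth.Agent.S2908.result _ q hY.isQuot
  obtain ⟨-, h3, h4, h5⟩ := Groth.Agent.S2909.result _ q hY.isQuot (base f (n + 1)) gY hY.over
    (fun g => by rw [SymProd.permActU_hom]; exact SymProd.permHom_base f (n + 1) _)
  have hs : Surjective q := ⟨h1⟩
  obtain ⟨h6, h7⟩ := h5 inferInstance inferInstance inferInstance
  have h8 : IsSeparated gY := h3.1 inferInstance
  have h9 : UniversallyClosed gY := by
    have : UniversallyClosed (q ≫ gY) := by rw [hY.over]; infer_instance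
    exact UniversallyClosed.of_comp_surjective q gY
  refine ⟨⟨⟩, h4 inferInstance, hs, ?_⟩
  refine Set.Subset.antisymm ?_ (Set.subset_preimage_image _ _)
  rintro x ⟨y, hy, hxy⟩
  obtain ⟨g, hg⟩ := (h2 y x).1 hxy
  rw [SymProd.permActU_hom] at hg
  rw [← hg]
  exact permHom_mem_bigDiag f _ hy


section Ample

open Groth.Agent.Models2.AmplePull Groth.Agent.Fga.TensorList

lemma boxPow_two (L : X.Modules) : TautSh.boxPow f 2 L =
    CohB1.tensorMod ((Scheme.Modules.pullback (pr f (0 : Fin 2))).obj L)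
      (CohB1.tensorMod ((Scheme.Modules.pullback (pr f (1 : Fin 2))).obj L) (Coh.structureModule _)) := rfl

/-- The square `X² = X ×_S X`. -/
lemma isPullback_two : IsPullback (pr f (0 : Fin 2)) (pr f (1 : Fin 2)) f f := by
  have hiso := isIso_base_zero f
  have hpb1 := isPullback_init f 0
  have hiso1 : IsIso (pr f (Fin.last 0) : SymProd.fibPow f 1 ⟶ X) := by
    exact hpb1.isIso_snd_of_isIso
  have hpb := isPullback_init f 1
  have h0 : init f 1 ≫ pr f (Fin.last 0) = pr f (0 : Fin 2) := init_pr f _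
  refine hpb.of_iso (Iso.refl _) (asIso (pr f (Fin.last 0))) (Iso.refl _) (Iso.refl _) ?_ ?_ ?_ ?_
  · simp
  · simp
  · simp
  · simp

/-- The external square of an ample module is ample. -/
theorem isAmple_boxPow_two [QuasiSeparatedSpace S] (L : X.Modules) (hL : CohB1.IsAmple L) :
    CohB1.IsAmple (TautSh.boxPow f 2 L) := by
  have hsq := isPullback_two f
  let e := hsq.isoPullback
  have he0 : e.hom ≫ pullback.fst f f = pr f (0 : Fin 2) := hsq.isoPullback_hom_fst
  have he1 : e.hom ≫ pullback.snd f f = pr f (1 : Fin 2) := hsq.isoPullback_hom_snd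
  have hA := Groth.Agent.S9816.result f f L L hL hL
  have hB := isAmple_pullback e.hom hA
  refine isAmple_of_iso ?_ hB
  refine Groth.Agent.Ega3B.PullTensor.pullTensorIso e.hom (isInvertible_pullback _ hL.1)
    (isInvertible_pullback _ hL.1) ≪≫ ?_
  rw [boxPow_two]
  exact tensorModCongr
    ((Scheme.Modules.pullbackComp _ _).app L ≪≫ (Scheme.Modules.pullbackCongr he0).app L)
    ((Scheme.Modules.pullbackComp _ _).app L ≪≫ (Scheme.Modules.pullbackCongr he1).app L ≪≫ (tensorUnit _).symm)

theorem ample_gen (k : Type u) [Field k] (f : X ⟶ Spec (CommRingCat.of k)) [IsProper f]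
    (q : SymProd.fibPow f 2 ⟶ Y) (gY : Y ⟶ Spec (CommRingCat.of k)) (hY : SymProd.IsSymProd f 2 q gY)
    (L : X.Modules) (hL : CohB1.IsAmple L) (M : Y.Modules) (hM : TautSh.IsSymPowLB f 2 q L M) :
    CohB1.IsAmple M := by
  obtain ⟨h1, h2, h3, -⟩ := quot_facts_gen f 1 q gY hY
  have hprop : IsProper (base f 2) :=
    base_of f @IsProper (fun _ _ => inferInstance) inferInstance 2
  obtain ⟨hM1, ⟨hM2⟩⟩ := hM
  rw [Groth.Agent.S0052.result k gY (base f 2) q hY.over M hM1]
  exact isAmple_of_iso hM2.symm (isAmple_boxPow_two f L hL)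

end Ample

section Dim

open Topology TopologicalSpace

attribute [local instance] specializationOrder in
/-- The image of a closed map has no larger dimension. -/
theorem dim_le_of_closed {A B : Type*} [TopologicalSpace A] [TopologicalSpace B] [QuasiSober A] [T0Space A]
    [QuasiSober B] (f : A → B) (hf : Continuous f) (hc : IsClosedMap f) (hs : Function.Surjective f) :
    topologicalKrullDim B ≤ topologicalKrullDim A := by
  rw [K618.TopDim.topologicalKrullDim_eq A, ← Order.krullDim_orderDual (α := A)]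
  unfold topologicalKrullDim
  rw [← Order.krullDim_orderDual (α := IrreducibleCloseds B)]
  refine K618.TopDim.krullDim_le_of_lift (α := Aᵒᵈ) (β := (IrreducibleCloseds B)ᵒᵈ)
    (fun a => OrderDual.toDual (K618.TopDim.cl (f (OrderDual.ofDual a)))) ?_ ?_ ?_
  · intro Z
    obtain ⟨b, hb⟩ := QuasiSober.sober (OrderDual.ofDual Z).isIrreducible (OrderDual.ofDual Z).isClosed
    obtain ⟨a, rfl⟩ := hs b
    exact ⟨OrderDual.toDual a, congrArg OrderDual.toDual (IrreducibleCloseds.ext hb.def)⟩
  · intro a b hab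
    have h1 : OrderDual.ofDual a ⤳ OrderDual.ofDual b := hab
    exact K618.TopDim.cl_le_cl.2 (h1.map hf)
  · intro a Z hZ
    obtain ⟨b, hb⟩ := QuasiSober.sober (OrderDual.ofDual Z).isIrreducible (OrderDual.ofDual Z).isClosed
    have hZ' : K618.TopDim.cl b = OrderDual.ofDual Z := IrreducibleCloseds.ext hb.def
    have h1 : f (OrderDual.ofDual a) ⤳ b := by
      rw [← K618.TopDim.cl_le_cl, hZ']
      exact hZ.le
    obtain ⟨a', h2, h3⟩ := hc.specializingMap h1
    refine ⟨OrderDual.toDual a', h2, ?_⟩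
    show OrderDual.toDual (K618.TopDim.cl (f a')) = Z
    rw [h3, hZ']
    rfl

/-- The image of the diagonal in the symmetric square has dimension at most `dim X`. -/
theorem dim_disc_gen [IsSeparated f] (q : SymProd.fibPow f 2 ⟶ Y) [IsIntegralHom q] :
    topologicalKrullDim (q '' bigDiag f 1) ≤ topologicalKrullDim X := by
  have hiso := isIso_base_zero f
  have hpb1 := isPullback_init f 0
  have hiso1 : IsIso (pr f (Fin.last 0) : SymProd.fibPow f 1 ⟶ X) := by
    exact hpb1.isIso_snd_of_isIso
  have h01 : (0 : Fin 2) ≠ 1 := by decide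
  set d := δ f (0 : Fin 2) 1 h01 with hd
  have hbig : bigDiag f 1 = Set.range d := by
    refine Set.Subset.antisymm ?_ ?_
    · intro x hx
      obtain ⟨i, j, hij, w, rfl⟩ := (mem_bigDiag f).1 hx
      have hpr : δ f i j hij ≫ pr f (0 : Fin 2) = δ f i j hij ≫ pr f 1 := by
        have h := δ_pr_eq f i j hij
        fin_cases i <;> fin_cases j
        · exact absurd rfl hij
        · exact h
        · exact h.symm
        · exact absurd rfl hij
      refine ⟨(δ f i j hij ≫ forget f 0) w, ?_⟩
      conv_rhs => rw [eq_comp_δ f 0 1 h01 (δ f i j hij) hpr]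
      rfl
    · rintro _ ⟨w, rfl⟩
      exact (mem_bigDiag f).2 ⟨0, 1, h01, w, rfl⟩
  have himg : q '' bigDiag f 1 = Set.range (d ≫ q) := by
    rw [hbig, ← Set.range_comp]
    rfl
  rw [himg]
  have hint : IsIntegralHom (d ≫ q) := inferInstance
  have hclosed : IsClosedMap (d ≫ q) := (d ≫ q).isClosedMap
  have hr : IsClosed (Set.range (d ≫ q)) := hclosed.isClosed_range
  have hso : QuasiSober (Set.range (d ≫ q)) := hr.isClosedEmbedding_subtypeVal.quasiSober
  have h1 : topologicalKrullDim (Set.range (d ≫ q)) ≤ topologicalKrullDim (SymProd.fibPow f 1) := by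
    refine dim_le_of_closed (Set.rangeFactorization (d ≫ q)) ?_ ?_ Set.rangeFactorization_surjective
    · exact (d ≫ q).continuous.subtype_mk _
    · intro C hC
      have h2 := hclosed C hC
      have h3 : Set.rangeFactorization (d ≫ q) '' C = Subtype.val ⁻¹' ((d ≫ q) '' C) := by
        ext ⟨y, hy⟩
        constructor
        · rintro ⟨c, hc, h⟩
          exact ⟨c, hc, congrArg Subtype.val h⟩
        · rintro ⟨c, hc, h⟩
          exact ⟨c, hc, Subtype.ext h⟩
      rw [h3]
      exact h2.preimage continuous_subtype_val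
  refine h1.trans (le_of_eq ?_)
  exact (pr f (Fin.last 0) : SymProd.fibPow f 1 ⟶ X).homeomorph.isHomeomorph.topologicalKrullDim_eq _

end Dim

section Rows

variable (k : Type u) [Field k] [IsAlgClosed k] [CharZero k] (X : Scheme.{u}) [X.Over (Spec (CommRingCat.of k))]
  [AlgebraicGeometry.IsIntegral X] [Smooth (X ↘ Spec (CommRingCat.of k))] [IsProper (X ↘ Spec (CommRingCat.of k))]
  (hdim : topologicalKrullDim X = 2) (Hl : X.Modules) (hHl : CohB1.IsAmple Hl) {Y : Scheme.{u}}
  (q : SymProd.fibPow (X ↘ Spec (CommRingCat.of k)) 2 ⟶ Y) (gY : Y ⟶ Spec (CommRingCat.of k))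
  (hY : SymProd.IsSymProd (X ↘ Spec (CommRingCat.of k)) 2 q gY)
  (M : Y.Modules) (hM : TautSh.IsSymPowLB (X ↘ Spec (CommRingCat.of k)) 2 q Hl M)

omit [IsAlgClosed k] [CharZero k] [AlgebraicGeometry.IsIntegral X] [Smooth (X ↘ Spec (CommRingCat.of k))]

include hY in
theorem quot_facts : IsProper gY ∧ IsFinite q ∧ Surjective q ∧
    q ⁻¹' (q '' bigDiag (X ↘ Spec (CommRingCat.of k)) 1) = bigDiag (X ↘ Spec (CommRingCat.of k)) 1 :=
  quot_facts_gen _ 1 q gY hY

include hHl hY hM in
theorem ample_M : CohB1.IsAmple M := ample_gen k _ q gY hY Hl hHl M hM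

include hdim hY in
theorem dim_disc : topologicalKrullDim (q '' bigDiag (X ↘ Spec (CommRingCat.of k)) 1) ≤ 2 := by
  obtain ⟨-, h, -, -⟩ := quot_facts k X q gY hY
  rw [← hdim]
  exact dim_disc_gen _ q

end Rows

end K639.SymFacts
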